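import Mathlib

/-!
# The simple factors of a non-abelian minimal normal subgroup

A non-abelian minimal normal subgroup `N` is generated by the conjugates of any minimal normal
subgroup `T` of `N`; distinct conjugates commute elementwise, and `T` is non-abelian simple.
-/

set_option autoImplicit false

namespace CfsgLib.MinNormal

variable {G : Type*} [Group G]

/-- `N` is a minimal normal subgroup. -/
structure IsMinNormal (N : Subgroup G) : Prop where
  normal : N.Normal
  ne_bot : N ≠ ⊥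
  minimal : ∀ K : Subgroup G, K.Normal → K ≤ N → K = ⊥ ∨ K = N

/-- `T` is a minimal normal subgroup of `N`. -/
structure IsFactor (N T : Subgroup G) : Prop where
  le : T ≤ N
  normal : N ≤ Subgroup.normalizer (T : Set G)
  ne_bot : T ≠ ⊥
  minimal : ∀ K : Subgroup G, K ≤ T → N ≤ Subgroup.normalizer (K : Set G) → K = ⊥ ∨ K = T

theorem exists_isMinNormal_le [Finite G] (K : Subgroup G) [hK : K.Normal] (hne : K ≠ ⊥) :
    ∃ N : Subgroup G, IsMinNormal N ∧ N ≤ K := by
  obtain ⟨N, hN⟩ := (Set.toFinite {M : Subgroup G | M.Normal ∧ M ≠ ⊥ ∧ M ≤ K}).exists_minimal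
    ⟨K, hK, hne, le_rfl⟩
  refine ⟨N, ⟨hN.prop.1, hN.prop.2.1, fun L hL hLN => ?_⟩, hN.prop.2.2⟩
  by_cases h : L = ⊥
  · exact Or.inl h
  · exact Or.inr (le_antisymm hLN (hN.le_of_le ⟨hL, h, hLN.trans hN.prop.2.2⟩ hLN))

theorem exists_isFactor [Finite G] {N : Subgroup G} (hN : IsMinNormal N) :
    ∃ T : Subgroup G, IsFactor N T := by
  obtain ⟨T, hT⟩ := (Set.toFinite {T : Subgroup G | T ≤ N ∧ T ≠ ⊥ ∧
    N ≤ Subgroup.normalizer (T : Set G)}).exists_minimal
    ⟨N, le_rfl, hN.ne_bot, Subgroup.le_normalizer⟩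
  refine ⟨T, hT.prop.1, hT.prop.2.2, hT.prop.2.1, fun L hL hLn => ?_⟩
  by_cases h : L = ⊥
  · exact Or.inl h
  · exact Or.inr (le_antisymm hL (hT.le_of_le ⟨hL.trans hT.prop.1, h, hLn⟩ hL))

theorem conj_mem_of_le_normalizer {K L : Subgroup G} (h : L ≤ Subgroup.normalizer (K : Set G))
    {l k : G} (hl : l ∈ L) (hk : k ∈ K) : l * k * l⁻¹ ∈ K :=
  (Subgroup.mem_normalizer_iff.1 (h hl) k).1 hk

theorem le_normalizer_of_conj_mem {K L : Subgroup G}
    (h : ∀ l ∈ L, ∀ k ∈ K, l * k * l⁻¹ ∈ K) : L ≤ Subgroup.normalizer (K : Set G) := by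
  intro l hl
  rw [Subgroup.mem_normalizer_iff]
  refine fun k => ⟨h l hl k, fun hk => ?_⟩
  have := h _ (L.inv_mem hl) _ hk
  simpa [mul_assoc] using this

/-- A group acts on the set of subgroups normal in `N` by conjugation. -/
theorem IsFactor.conj {N T : Subgroup G} (hN : IsMinNormal N) (hT : IsFactor N T) (g : G) :
    IsFactor N (T.map (MulAut.conj g).toMonoidHom) := by
  haveI := hN.normal
  have hback : ∀ K : Subgroup G, N ≤ Subgroup.normalizer (K : Set G) → ∀ a : G,
      N ≤ Subgroup.normalizer ((K.map (MulAut.conj a).toMonoidHom : Subgroup G) : Set G) := by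
    intro K hK a
    refine le_normalizer_of_conj_mem ?_
    rintro n hn _ ⟨k, hk, rfl⟩
    refine ⟨(a⁻¹ * n * a) * k * (a⁻¹ * n * a)⁻¹, conj_mem_of_le_normalizer hK
      (by simpa using Subgroup.Normal.conj_mem inferInstance n hn a⁻¹) hk, ?_⟩
    simp [mul_assoc]
  refine ⟨?_, hback T hT.normal g, ?_, fun K hK hKn => ?_⟩
  · rintro _ ⟨t, ht, rfl⟩
    exact Subgroup.Normal.conj_mem inferInstance t (hT.le ht) g
  · exact fun h => hT.ne_bot ((Subgroup.map_eq_bot_iff_of_injective _ (MulAut.conj g).injective).1 h)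
  · have h1 := hT.minimal (K.map (MulAut.conj g⁻¹).toMonoidHom) ?_ (hback K hKn g⁻¹)
    · have hKe : K = (K.map (MulAut.conj g⁻¹).toMonoidHom).map (MulAut.conj g).toMonoidHom := by
        rw [Subgroup.map_map]
        convert (Subgroup.map_id K).symm
        ext x
        simp [mul_assoc]
      rcases h1 with h1 | h1
      · left; rw [hKe, h1, Subgroup.map_bot]
      · right; rw [hKe, h1]
    · rintro _ ⟨k, hk, rfl⟩
      obtain ⟨t, ht, rfl⟩ := hK hk
      simpa [mul_assoc] using ht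

theorem IsFactor.inf_eq_bot {N T U : Subgroup G} (hT : IsFactor N T) (hU : IsFactor N U)
    (hne : T ≠ U) : T ⊓ U = ⊥ := by
  have hn : N ≤ Subgroup.normalizer ((T ⊓ U : Subgroup G) : Set G) :=
    le_normalizer_of_conj_mem fun n hn k hk =>
      ⟨conj_mem_of_le_normalizer hT.normal hn hk.1, conj_mem_of_le_normalizer hU.normal hn hk.2⟩
  refine (hT.minimal _ inf_le_left hn).resolve_right fun h => ?_
  have hle : T ≤ U := inf_eq_left.1 h
  exact hne ((hU.minimal T hle hT.normal).resolve_left hT.ne_bot)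

theorem IsFactor.commute {N T U : Subgroup G} (hT : IsFactor N T) (hU : IsFactor N U)
    (hne : T ≠ U) {t u : G} (ht : t ∈ T) (hu : u ∈ U) : Commute t u := by
  have h : t * u * t⁻¹ * u⁻¹ ∈ T ⊓ U := by
    refine ⟨?_, ?_⟩
    · rw [mul_assoc t u, mul_assoc t]
      exact T.mul_mem ht (conj_mem_of_le_normalizer hT.normal (hU.le hu) (T.inv_mem ht))
    · exact U.mul_mem (conj_mem_of_le_normalizer hU.normal (hT.le ht) hu) (U.inv_mem hu)
  rw [hT.inf_eq_bot hU hne, Subgroup.mem_bot, mul_inv_eq_one, mul_inv_eq_iff_eq_mul] at h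
  exact h

/-- Every element of a factor in a minimal normal subgroup: `N` is generated by the factors. -/
theorem iSup_factor_eq {N T : Subgroup G} (hN : IsMinNormal N) (hT : IsFactor N T) :
    ⨆ g : G, T.map (MulAut.conj g).toMonoidHom = N := by
  set S := ⨆ g : G, T.map (MulAut.conj g).toMonoidHom with hS
  have hSn : S.Normal := ⟨fun x hx a => by
    have : ∀ y ∈ S, a * y * a⁻¹ ∈ S := by
      intro y hy
      induction hy using Subgroup.iSup_induction' with
      | hp g z hz =>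
        obtain ⟨t, ht, rfl⟩ := hz
        exact Subgroup.mem_iSup_of_mem (a * g) ⟨t, ht, by simp [mul_assoc]⟩
      | h1 => simp
      | hmul y z _ _ hy hz =>
        have : a * (y * z) * a⁻¹ = a * y * a⁻¹ * (a * z * a⁻¹) := by group
        rw [this]
        exact S.mul_mem hy hz
    exact this x hx⟩
  refine (hN.minimal S hSn (iSup_le fun g => (hT.conj hN g).le)).resolve_left fun h => hT.ne_bot ?_
  rw [eq_bot_iff, ← h]
  exact fun t ht => Subgroup.mem_iSup_of_mem 1 ⟨t, ht, by simp⟩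

/-- An element of `N` is a product of an element of the factor `T` and one centralising `T`. -/
theorem exists_mul_decomp {N T : Subgroup G} (hN : IsMinNormal N) (hT : IsFactor N T) {n : G}
    (hn : n ∈ N) : ∃ t ∈ T, ∃ z ∈ N, (∀ u ∈ T, Commute z u) ∧ n = t * z := by
  set C := N ⊓ Subgroup.centralizer (T : Set G) with hC
  have hle : N ≤ T ⊔ C := by
    conv_lhs => rw [← iSup_factor_eq hN hT]
    refine iSup_le fun g => ?_
    by_cases h : T.map (MulAut.conj g).toMonoidHom = T
    · rw [h]; exact le_sup_left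
    · refine le_trans (le_inf (hT.conj hN g).le fun x hx => ?_) le_sup_right
      exact Subgroup.mem_centralizer_iff.2 fun u hu => hT.commute (hT.conj hN g) (Ne.symm h) hu hx
  have hn' : n ∈ ((T ⊔ C : Subgroup G) : Set G) := hle hn
  rw [Subgroup.coe_mul_of_right_le_normalizer_left T C (inf_le_left.trans hT.normal)] at hn'
  obtain ⟨t, ht, z, hz, rfl⟩ := hn'
  exact ⟨t, ht, z, hz.1, fun u hu => (Subgroup.mem_centralizer_iff.1 hz.2 u hu).symm, rfl⟩

variable {N T : Subgroup G}

/-- A non-abelian minimal normal subgroup has trivial centre. -/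
theorem eq_one_of_commute_all (hN : IsMinNormal N) (hnc : ¬ IsMulCommutative N) {n : G}
    (hn : n ∈ N) (h : ∀ m ∈ N, Commute n m) : n = 1 := by
  haveI := hN.normal
  set Z : Subgroup G := N ⊓ Subgroup.centralizer (N : Set G) with hZdef
  rcases hN.minimal Z inferInstance inf_le_left with hZ | hZ
  · have : n ∈ Z := ⟨hn, Subgroup.mem_centralizer_iff.2 fun m hm => (h m hm).symm⟩
    rwa [hZ, Subgroup.mem_bot] at this
  · refine absurd (⟨⟨fun a b => Subtype.ext ?_⟩⟩ : IsMulCommutative N) hnc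
    have : (b : G) ∈ Z := by rw [hZ]; exact b.2
    exact Subgroup.mem_centralizer_iff.1 this.2 a a.2

theorem eq_one_of_commute_factors (hN : IsMinNormal N) (hnc : ¬ IsMulCommutative N)
    (hT : IsFactor N T) {n : G} (hn : n ∈ N)
    (h : ∀ V : Subgroup G, IsFactor N V → ∀ v ∈ V, Commute n v) : n = 1 := by
  refine eq_one_of_commute_all hN hnc hn fun m hm => ?_
  rw [← iSup_factor_eq hN hT] at hm
  induction hm using Subgroup.iSup_induction' with
  | hp g z hz => exact h _ (hT.conj hN g) z hz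
  | h1 => exact Commute.one_right n
  | hmul y z _ _ hy hz => exact hy.mul_right hz

/-- A factor has trivial centre. -/
theorem IsFactor.eq_one_of_commute (hN : IsMinNormal N) (hnc : ¬ IsMulCommutative N)
    (hT : IsFactor N T) {t : G} (ht : t ∈ T) (h : ∀ u ∈ T, Commute t u) : t = 1 :=
  eq_one_of_commute_factors hN hnc hT (hT.le ht) fun V hV v hv => by
    by_cases hVT : V = T
    · exact h v (hVT ▸ hv)
    · exact hT.commute hV (Ne.symm hVT) ht hv

/-- A factor is simple. -/
theorem IsFactor.eq_bot_or_eq (hN : IsMinNormal N) (hT : IsFactor N T) (K : Subgroup G)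
    (hK : K ≤ T) (hKn : T ≤ Subgroup.normalizer (K : Set G)) : K = ⊥ ∨ K = T := by
  refine hT.minimal K hK (le_normalizer_of_conj_mem fun n hn k hk => ?_)
  obtain ⟨t, ht, z, -, hz, rfl⟩ := exists_mul_decomp hN hT hn
  have : t * z * k * (t * z)⁻¹ = t * k * t⁻¹ := by
    rw [mul_assoc t z k, (hz k (hK hk)).eq]
    group
  rw [this]
  exact conj_mem_of_le_normalizer hKn ht hk

theorem IsFactor.isSimpleGroup (hN : IsMinNormal N) (hT : IsFactor N T) : IsSimpleGroup T := by
  haveI : Nontrivial T := (Subgroup.nontrivial_iff_ne_bot T).2 hT.ne_bot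
  refine ⟨fun L hL => ?_⟩
  have h := hT.eq_bot_or_eq hN (L.map T.subtype) (Subgroup.map_subtype_le L)
    (le_normalizer_of_conj_mem fun t ht k hk => ?_)
  · rcases h with h | h
    · exact Or.inl ((Subgroup.map_eq_bot_iff_of_injective _ T.subtype_injective).1 h)
    · right
      apply Subgroup.map_injective T.subtype_injective
      rw [h, ← MonoidHom.range_eq_map, Subgroup.range_subtype]
  · obtain ⟨l, hl, rfl⟩ := hk
    exact ⟨⟨t, ht⟩ * l * ⟨t, ht⟩⁻¹, hL.conj_mem l hl ⟨t, ht⟩, rfl⟩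

theorem IsFactor.not_commutative (hN : IsMinNormal N) (hnc : ¬ IsMulCommutative N)
    (hT : IsFactor N T) : ¬ IsMulCommutative T := by
  intro h
  obtain ⟨t, ht, ht1⟩ := T.bot_or_exists_ne_one.resolve_left hT.ne_bot
  exact ht1 (hT.eq_one_of_commute hN hnc ht fun u hu =>
    congrArg Subtype.val (h.is_comm.comm (⟨t, ht⟩ : T) ⟨u, hu⟩))

/-- Two primes divide the order of a factor. -/
theorem IsFactor.exists_two_primes [Finite G] (hN : IsMinNormal N) (hnc : ¬ IsMulCommutative N)
    (hT : IsFactor N T) : ∃ x ∈ T, ∃ y ∈ T, (orderOf x).Prime ∧ (orderOf y).Prime ∧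
      orderOf x ≠ orderOf y := by
  haveI : Nontrivial T := (Subgroup.nontrivial_iff_ne_bot T).2 hT.ne_bot
  obtain ⟨p, hp, hpT⟩ := Nat.exists_prime_and_dvd (n := Nat.card T) Finite.one_lt_card.ne'
  haveI := Fact.mk hp
  obtain ⟨x, hx⟩ := exists_prime_orderOf_dvd_card' p hpT
  by_cases hq : ∃ q, q.Prime ∧ q ∣ Nat.card T ∧ q ≠ p
  · obtain ⟨q, hq, hqT, hqp⟩ := hq
    haveI := Fact.mk hq
    obtain ⟨y, hy⟩ := exists_prime_orderOf_dvd_card' q hqT
    refine ⟨x, x.2, y, y.2, ?_⟩
    rw [Subgroup.orderOf_coe, Subgroup.orderOf_coe, hx, hy]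
    exact ⟨hp, hq, hqp.symm⟩
  · exfalso
    have hpg : IsPGroup p T := by
      refine IsPGroup.of_card (n := (Nat.card T).primeFactorsList.length) ?_
      refine Nat.eq_prime_pow_of_unique_prime_dvd Nat.card_pos.ne' fun {d} hd hdT => ?_
      by_contra hne
      exact hq ⟨d, hd, hdT, hne⟩
    haveI := hpg.center_nontrivial
    obtain ⟨z, hz, hz1⟩ := (Subgroup.center T).bot_or_exists_ne_one.resolve_left
      ((Subgroup.nontrivial_iff_ne_bot _).1 inferInstance)
    exact hz1 (Subtype.ext (hT.eq_one_of_commute hN hnc z.2 fun u hu =>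
      congrArg Subtype.val ((Subgroup.mem_center_iff.1 hz ⟨u, hu⟩).symm)))

/-- A product of nontrivial elements of two distinct factors lies in no factor. -/
theorem mul_not_mem_factor (hN : IsMinNormal N) (hnc : ¬ IsMulCommutative N) {U V : Subgroup G}
    (hT : IsFactor N T) (hU : IsFactor N U) (hV : IsFactor N V) (hTU : T ≠ U) {t u : G}
    (ht : t ∈ T) (hu : u ∈ U) (ht1 : t ≠ 1) (hu1 : u ≠ 1) : t * u ∉ V := by
  intro h
  have hd := hT.inf_eq_bot hU hTU
  by_cases hVT : V = T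
  · subst hVT
    have : u ∈ (⊥ : Subgroup G) := hd ▸ ⟨(Subgroup.mul_mem_cancel_left V ht).1 h, hu⟩
    exact hu1 (Subgroup.mem_bot.1 this)
  by_cases hVU : V = U
  · subst hVU
    have : t ∈ (⊥ : Subgroup G) := hd ▸ ⟨ht, (Subgroup.mul_mem_cancel_right V hu).1 h⟩
    exact ht1 (Subgroup.mem_bot.1 this)
  have h1 : t * u = 1 := hV.eq_one_of_commute hN hnc h fun v hv =>
    Commute.mul_left (hT.commute hV (Ne.symm hVT) ht hv) (hU.commute hV (Ne.symm hVU) hu hv)
  have htu : t = u⁻¹ := eq_inv_of_mul_eq_one_left h1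
  have : t ∈ (⊥ : Subgroup G) := hd ▸ ⟨ht, htu ▸ U.inv_mem hu⟩
  exact ht1 (Subgroup.mem_bot.1 this)

/-- Conjugation maps the two components of a product over two factors to those of its image. -/
theorem conj_components (hN : IsMinNormal N) (hnc : ¬ IsMulCommutative N) {U : Subgroup G}
    (hT : IsFactor N T) (hU : IsFactor N U) (hTU : T ≠ U) {t u t' u' g : G}
    (ht : t ∈ T) (hu : u ∈ U) (ht' : t' ∈ T) (hu' : u' ∈ U) (ht1 : t ≠ 1) (hu1 : u ≠ 1)
    (h : g * (t * u) * g⁻¹ = t' * u') :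
    (g * t * g⁻¹ = t' ∧ g * u * g⁻¹ = u') ∨ (g * t * g⁻¹ = u' ∧ g * u * g⁻¹ = t') := by
  set x := g * t * g⁻¹ with hx
  set y := g * u * g⁻¹ with hy
  set X := T.map (MulAut.conj g).toMonoidHom
  set Y := U.map (MulAut.conj g).toMonoidHom
  have hX : IsFactor N X := hT.conj hN g
  have hY : IsFactor N Y := hU.conj hN g
  have hxX : x ∈ X := ⟨t, ht, rfl⟩
  have hyY : y ∈ Y := ⟨u, hu, rfl⟩
  have hXY : X ≠ Y := fun e => hTU (Subgroup.map_injective (MulAut.conj g).injective e)
  have hxy : x * y = t' * u' := by rw [← h, hx, hy]; group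
  have hx1 : x ≠ 1 := fun e => ht1 (conj_eq_one_iff.1 e)
  have hy1 : y ≠ 1 := fun e => hu1 (conj_eq_one_iff.1 e)
  -- `X` and `Y` are among `T` and `U`
  have key : ∀ (W Z : Subgroup G) (a b : G), IsFactor N W → IsFactor N Z → W ≠ Z → a ∈ W → b ∈ Z →
      a ≠ 1 → Commute a b → a * b = t' * u' → W = T ∨ W = U := by
    intro W Z a b hW hZ hWZ ha hb ha1 hab he
    by_contra hcon
    push Not at hcon
    refine ha1 (hW.eq_one_of_commute hN hnc ha fun w hw => ?_)
    have h1 : a = t' * u' * b⁻¹ := by rw [← he, mul_inv_cancel_right]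
    rw [h1]
    exact ((hT.commute hW hcon.1.symm ht' hw).mul_left (hU.commute hW hcon.2.symm hu' hw)).mul_left
      (hZ.commute hW hWZ.symm (Z.inv_mem hb) hw)
  have hcomm : Commute x y := hX.commute hY hXY hxX hyY
  have huniq : ∀ a b : G, a ∈ T → b ∈ U → a * b = t' * u' → a = t' ∧ b = u' := by
    intro a b ha hb he
    have h1 : t'⁻¹ * a = u' * b⁻¹ := by
      rw [inv_mul_eq_iff_eq_mul, ← mul_assoc, ← he, mul_inv_cancel_right]
    have h2 : t'⁻¹ * a ∈ (⊥ : Subgroup G) :=
      hT.inf_eq_bot hU hTU ▸ ⟨T.mul_mem (T.inv_mem ht') ha, h1 ▸ U.mul_mem hu' (U.inv_mem hb)⟩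
    rw [Subgroup.mem_bot, inv_mul_eq_one] at h2
    exact ⟨h2.symm, mul_left_cancel (h2 ▸ he)⟩
  rcases key X Y x y hX hY hXY hxX hyY hx1 hcomm hxy with hXT | hXU
  · rcases key Y X y x hY hX hXY.symm hyY hxX hy1 hcomm.symm (hcomm.eq ▸ hxy) with hYT | hYU
    · exact absurd (hXT.trans hYT.symm) hXY
    · exact Or.inl (huniq x y (hXT ▸ hxX) (hYU ▸ hyY) hxy)
  · rcases key Y X y x hY hX hXY.symm hyY hxX hy1 hcomm.symm (hcomm.eq ▸ hxy) with hYT | hYU
    · exact Or.inr ((huniq y x (hYT ▸ hyY) (hXU ▸ hxX) (hcomm.eq ▸ hxy)).symm)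
    · exact absurd (hXU.trans hYU.symm) hXY

end CfsgLib.MinNormal
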