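import Mathlib
import Cfsg.Agent.MinNormal.Factors
import Cfsg.Agent.Derangement.Subgroup

/-!
# Derangements in primitive groups which are not almost simple

A primitive group with a non-abelian minimal normal subgroup that is not almost simple has three
pairwise non-conjugate derangements; in the affine case the derangements are described through the
regular normal subgroup.
-/

set_option autoImplicit false

open MulAction

namespace CfsgLib.MinNormal

variable {G : Type*} [Group G] {Ω : Type*} [MulAction G Ω] [FaithfulSMul G Ω]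

theorem isPretransitive_of_ne_bot [IsQuasiPreprimitive G Ω] {N : Subgroup G} [N.Normal]
    (hN : N ≠ ⊥) : IsPretransitive N Ω := by
  refine IsQuasiPreprimitive.isPretransitive_of_normal (G := G) fun h => hN ?_
  refine (Subgroup.eq_bot_iff_forall N).2 fun n hn => eq_of_smul_eq_smul (α := Ω) fun ω => ?_
  rw [one_smul]
  exact (h ▸ Set.mem_univ ω : ω ∈ fixedPoints N Ω) ⟨n, hn⟩

/-- An element commuting with a transitive subgroup and fixing a point is trivial. -/
theorem eq_one_of_fix_of_commute {N : Subgroup G} [IsPretransitive N Ω] {z : G}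
    (hz : ∀ m ∈ N, Commute z m) {ω : Ω} (hfix : z • ω = ω) : z = 1 := by
  refine eq_of_smul_eq_smul (α := Ω) fun x => ?_
  obtain ⟨⟨m, hm⟩, rfl⟩ := exists_smul_eq N ω x
  show z • m • ω = (1 : G) • m • ω
  rw [one_smul, ← mul_smul, (hz m hm).eq, mul_smul, hfix]

variable {N T : Subgroup G}

/-- If a factor has nontrivial elements fixing a point, every point is fixed by one. -/
theorem exists_fixer [IsPretransitive N Ω] (hT : IsFactor N T) {a : G} (ha : a ∈ T) (ha1 : a ≠ 1)
    {ω : Ω} (hfix : a • ω = ω) (x : Ω) : ∃ b ∈ T, b ≠ 1 ∧ b • x = x := by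
  obtain ⟨⟨n, hn⟩, rfl⟩ := exists_smul_eq N ω x
  refine ⟨n * a * n⁻¹, conj_mem_of_le_normalizer hT.normal hn ha,
    fun h => ha1 (conj_eq_one_iff.1 h), ?_⟩
  show (n * a * n⁻¹) • n • ω = n • ω
  rw [← mul_smul, inv_mul_cancel_right, mul_smul, hfix]

/-- In a primitive group a stabilizer meeting a factor contains the components of its elements
in that factor. -/
theorem fix_of_fix_mul [IsPreprimitive G Ω] (hN : IsMinNormal N) (hT : IsFactor N T) {t z : G}
    (ht : t ∈ T) (hzc : ∀ u ∈ T, Commute z u) (hz : z ∈ N) {ω : Ω} (hfix : (t * z) • ω = ω)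
    {a : G} (ha : a ∈ T) (ha1 : a ≠ 1) (hafix : a • ω = ω) : t • ω = ω := by
  by_contra hne
  haveI : Nontrivial Ω := ⟨⟨_, _, hne⟩⟩
  have hc : IsCoatom (stabilizer G ω) :=
    (isCoatom_stabilizer_iff_preprimitive (G := G) (X := Ω) ω).2 inferInstance
  set H := stabilizer G ω with hH
  set P : Subgroup G := ⨆ g : G, (T.map (MulAut.conj g).toMonoidHom ⊓ H) with hP
  have hPle : P ≤ H := iSup_le fun g => inf_le_right
  have hnorm : H ≤ Subgroup.normalizer (P : Set G) := by
    refine le_normalizer_of_conj_mem fun h hh y hy => ?_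
    induction hy using Subgroup.iSup_induction' with
    | hp g x hx =>
      obtain ⟨⟨u, hu, rfl⟩, hxH⟩ := hx
      exact Subgroup.mem_iSup_of_mem (h * g)
        ⟨⟨u, hu, by simp [mul_assoc]⟩, H.mul_mem (H.mul_mem hh hxH) (H.inv_mem hh)⟩
    | h1 => simp
    | hmul x y _ _ hx hy =>
      have : h * (x * y) * h⁻¹ = h * x * h⁻¹ * (h * y * h⁻¹) := by group
      rw [this]
      exact P.mul_mem hx hy
  -- conjugation by a component preserves `P`
  have key : ∀ t' z' : G, t' ∈ T → (∀ u ∈ T, Commute z' u) → t' * z' ∈ H →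
      ∀ y ∈ P, t' * y * t'⁻¹ ∈ P := by
    intro t' z' ht' hz' hH' y hy
    induction hy using Subgroup.iSup_induction' with
    | hp g x hx =>
      obtain ⟨hxV, hxH⟩ := hx
      refine Subgroup.mem_iSup_of_mem g ?_
      by_cases hV : T.map (MulAut.conj g).toMonoidHom = T
      · rw [hV] at hxV ⊢
        refine ⟨T.mul_mem (T.mul_mem ht' hxV) (T.inv_mem ht'), ?_⟩
        have : t' * x * t'⁻¹ = t' * z' * x * (t' * z')⁻¹ := by
          rw [mul_assoc t' z' x, (hz' x hxV).eq]; group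
        rw [this]
        exact H.mul_mem (H.mul_mem hH' hxH) (H.inv_mem hH')
      · rw [(hT.commute (hT.conj hN g) (Ne.symm hV) ht' hxV).eq, mul_inv_cancel_right]
        exact ⟨hxV, hxH⟩
    | h1 => simp
    | hmul x y _ _ hx hy =>
      have : t' * (x * y) * t'⁻¹ = t' * x * t'⁻¹ * (t' * y * t'⁻¹) := by group
      rw [this]
      exact P.mul_mem hx hy
  have hmem : t * z ∈ H := hfix
  have htN : t ∈ Subgroup.normalizer (P : Set G) := by
    rw [Subgroup.mem_normalizer_iff]
    refine fun y => ⟨key t z ht hzc hmem y, fun hy => ?_⟩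
    have h1 : t⁻¹ * z⁻¹ ∈ H := by
      have := H.inv_mem hmem
      rwa [(hzc t ht).symm.eq, mul_inv_rev] at this
    have := key t⁻¹ z⁻¹ (T.inv_mem ht) (fun u hu => (hzc u hu).inv_left) h1 _ hy
    simpa [mul_assoc] using this
  rcases hc.le_iff.1 hnorm with h | h
  · haveI : P.Normal := Subgroup.normalizer_eq_top_iff.1 h
    have haP : a ∈ P := Subgroup.mem_iSup_of_mem 1 ⟨⟨a, ha, by simp⟩, hafix⟩
    refine ha1 (eq_of_smul_eq_smul (α := Ω) fun x => ?_)
    obtain ⟨g, rfl⟩ := exists_smul_eq G ω x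
    have h1 : (g⁻¹ * a * g) • ω = ω := hPle (by
      simpa using Subgroup.Normal.conj_mem (H := P) inferInstance a haP g⁻¹)
    rw [mul_smul, mul_smul, inv_smul_eq_iff] at h1
    rw [h1, one_smul]
  · rw [h] at htN
    exact hne htN

/-- A factor of a transitive minimal normal subgroup contains a derangement. -/
theorem exists_derangement_factor [Finite G] [Finite Ω] [IsPretransitive N Ω] [Nonempty Ω]
    (hN : IsMinNormal N) (hT : IsFactor N T) : ∃ t ∈ T, ∀ ω : Ω, t • ω ≠ ω := by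
  obtain ⟨ω⟩ := ‹Nonempty Ω›
  have h2 : 2 ≤ Nat.card (orbit T ω) := by
    by_contra hlt
    haveI : Nonempty (orbit T ω) := ⟨⟨ω, mem_orbit_self ω⟩⟩
    have h1 : Nat.card (orbit T ω) = 1 := by
      have : 0 < Nat.card (orbit T ω) := Nat.card_pos
      omega
    obtain ⟨hs, -⟩ := Nat.card_eq_one_iff_unique.1 h1
    refine hT.ne_bot ((Subgroup.eq_bot_iff_forall T).2 fun t ht => ?_)
    refine eq_of_smul_eq_smul (α := Ω) fun x => ?_
    obtain ⟨⟨n, hn⟩, rfl⟩ := exists_smul_eq N ω x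
    have h3 : n⁻¹ * t * n ∈ T := by
      simpa using conj_mem_of_le_normalizer hT.normal (N.inv_mem hn) ht
    have h4 : (n⁻¹ * t * n) • ω = ω := congrArg Subtype.val
      (hs.elim (⟨_, ⟨⟨_, h3⟩, rfl⟩⟩ : orbit T ω) ⟨ω, mem_orbit_self ω⟩)
    rw [mul_smul, mul_smul, inv_smul_eq_iff] at h4
    show t • n • ω = (1 : G) • n • ω
    rw [h4, one_smul]
  haveI : Finite T := inferInstance
  obtain ⟨⟨t, ht⟩, hder⟩ := CfsgLib.Derangement.exists_derangement (G := T) (Ω := orbit T ω) h2
  refine ⟨t, ht, fun x hx => ?_⟩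
  obtain ⟨⟨n, hn⟩, rfl⟩ := exists_smul_eq N ω x
  change t • n • ω = n • ω at hx
  obtain ⟨s, hs, z, -, hzc, rfl⟩ := exists_mul_decomp hN hT hn
  refine hder ⟨s • ω, ⟨⟨s, hs⟩, rfl⟩⟩ (Subtype.ext ?_)
  show t • s • ω = s • ω
  have hmem : s⁻¹ * t * s ∈ T := T.mul_mem (T.mul_mem (T.inv_mem hs) ht) hs
  have h1 : (z⁻¹ * (s⁻¹ * t * s) * z) • ω = ω := by
    rw [mul_smul, mul_smul, mul_smul, mul_smul, inv_smul_eq_iff, inv_smul_eq_iff]
    rwa [← mul_smul s z]
  rw [mul_assoc z⁻¹, ← (hzc _ hmem).eq, inv_mul_cancel_left, mul_smul, mul_smul,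
    inv_smul_eq_iff] at h1
  exact h1

/-- A primitive group with a non-abelian minimal normal subgroup which is not almost simple has
three pairwise non-conjugate derangements. -/
theorem exists_three_derangements [Finite G] [Finite Ω] [IsPreprimitive G Ω] [Nonempty Ω]
    (hN : IsMinNormal N) (hnc : ¬ IsMulCommutative N)
    (hnas : ¬ ∃ T : Subgroup G, T.Normal ∧ IsSimpleGroup T ∧ ¬ IsMulCommutative T ∧
      Subgroup.centralizer (T : Set G) = ⊥) :
    ∃ f : Fin 3 → G, (∀ i, ∀ ω : Ω, f i • ω ≠ ω) ∧ ∀ i j, IsConj (f i) (f j) → i = j := by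
  haveI := hN.normal
  haveI : IsPretransitive N Ω := isPretransitive_of_ne_bot hN.ne_bot
  obtain ⟨T, hT⟩ := exists_isFactor hN
  obtain ⟨x, hx, y, hy, hxp, hyp, hxy⟩ := hT.exists_two_primes hN hnc
  have hx1 : x ≠ 1 := fun h => Nat.not_prime_one (by rwa [h, orderOf_one] at hxp)
  have hy1 : y ≠ 1 := fun h => Nat.not_prime_one (by rwa [h, orderOf_one] at hyp)
  have hord : ∀ a b : G, IsConj a b → orderOf a = orderOf b := fun a b h => by
    obtain ⟨c, rfl⟩ := isConj_iff.1 h
    exact ((SemiconjBy.conj_mk c a).orderOf_eq).symm ▸ rfl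
  -- it suffices to give three elements
  have three : ∀ a b c : G, (∀ ω : Ω, a • ω ≠ ω) → (∀ ω : Ω, b • ω ≠ ω) → (∀ ω : Ω, c • ω ≠ ω) →
      ¬ IsConj a b → ¬ IsConj a c → ¬ IsConj b c →
      ∃ f : Fin 3 → G, (∀ i, ∀ ω : Ω, f i • ω ≠ ω) ∧ ∀ i j, IsConj (f i) (f j) → i = j := by
    intro a b c ha hb hc hab hac hbc
    refine ⟨![a, b, c], fun i => ?_, fun i j h => ?_⟩
    · fin_cases i <;> assumption
    · fin_cases i <;> fin_cases j <;> first
        | rfl
        | exact absurd h hab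
        | exact absurd h.symm hab
        | exact absurd h hac
        | exact absurd h.symm hac
        | exact absurd h hbc
        | exact absurd h.symm hbc
  by_cases hC : Subgroup.centralizer (N : Set G) = ⊥
  swap
  · set K := Subgroup.centralizer (N : Set G) with hK
    haveI : IsPretransitive K Ω := isPretransitive_of_ne_bot hC
    obtain ⟨k, hk, hk1⟩ := K.bot_or_exists_ne_one.resolve_left hC
    have hNder : ∀ n ∈ N, n ≠ 1 → ∀ ω : Ω, n • ω ≠ ω := fun n hn hn1 ω h => hn1 <|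
      eq_one_of_fix_of_commute (N := K) (fun m hm => Subgroup.mem_centralizer_iff.1 hm n hn) h
    have hKN : ∀ a ∈ N, ¬ IsConj a k := by
      intro a ha h
      obtain ⟨c, rfl⟩ := isConj_iff.1 h
      exact hk1 (eq_one_of_commute_all hN hnc (Subgroup.Normal.conj_mem inferInstance a ha c)
        fun m hm => (Subgroup.mem_centralizer_iff.1 hk m hm).symm)
    exact three x y k (hNder x (hT.le hx) hx1) (hNder y (hT.le hy) hy1)
      (fun ω h => hk1 (eq_one_of_fix_of_commute (N := N)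
        (fun m hm => (Subgroup.mem_centralizer_iff.1 hk m hm).symm) h))
      (fun h => hxy (hord _ _ h)) (hKN x (hT.le hx)) (hKN y (hT.le hy))
  -- there is a second factor
  obtain ⟨g, hg⟩ : ∃ g : G, T.map (MulAut.conj g).toMonoidHom ≠ T := by
    by_contra hall
    push Not at hall
    have hTN : T = N := by
      conv_rhs => rw [← iSup_factor_eq hN hT]
      exact le_antisymm (fun t ht =>
        le_iSup (fun g : G => T.map (MulAut.conj g).toMonoidHom) 1 ⟨t, ht, by simp⟩)
        (iSup_le fun g => (hall g).le)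
    subst hTN
    exact hnas ⟨T, hN.normal, hT.isSimpleGroup hN, hnc, hC⟩
  set U := T.map (MulAut.conj g).toMonoidHom with hUdef
  have hU : IsFactor N U := hT.conj hN g
  have hTU : T ≠ U := Ne.symm hg
  by_cases hA : ∃ a ∈ T, a ≠ 1 ∧ ∃ ω : Ω, a • ω = ω
  swap
  · -- semiregular factors
    push Not at hA
    set y' := g * y * g⁻¹ with hy'
    have hy'U : y' ∈ U := ⟨y, hy, rfl⟩
    have hoy : orderOf y' = orderOf y := (SemiconjBy.conj_mk g y).orderOf_eq.symm ▸ rfl
    have hcxy : Commute x y' := hT.commute hU hTU hx hy'U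
    have hcop : (orderOf x).Coprime (orderOf y') :=
      hoy ▸ (Nat.coprime_primes hxp hyp).2 hxy
    have hoxy : orderOf (x * y') = orderOf x * orderOf y := by
      rw [hcxy.orderOf_mul_eq_mul_orderOf_of_coprime hcop, hoy]
    refine three x y (x * y') (hA x hx hx1) (hA y hy hy1) (fun ω h => ?_)
      (fun h => hxy (hord _ _ h)) (fun h => ?_) (fun h => ?_)
    · have h1 : (x * y') ^ orderOf y' • ω = ω :=
        pow_mem (mem_stabilizer_iff.2 h : x * y' ∈ stabilizer G ω) _
      rw [hcxy.mul_pow, pow_orderOf_eq_one, mul_one] at h1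
      refine hA _ (T.pow_mem hx _) (fun h2 => ?_) ω h1
      rw [← orderOf_dvd_iff_pow_eq_one, hoy] at h2
      exact hxy ((Nat.prime_dvd_prime_iff_eq hxp hyp).1 h2)
    · have := hord _ _ h
      rw [hoxy] at this
      nlinarith [hxp.two_le, hyp.two_le]
    · have := hord _ _ h
      rw [hoxy] at this
      nlinarith [hxp.two_le, hyp.two_le]
  · obtain ⟨a₀, ha₀, ha₀1, ω₀, hω₀⟩ := hA
    obtain ⟨t, ht, hder⟩ := exists_derangement_factor (Ω := Ω) hN hT
    have ht1 : t ≠ 1 := fun h => hder ω₀ (by rw [h, one_smul])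
    set u := g * t * g⁻¹ with hu'
    set a := g * a₀ * g⁻¹ with ha'
    have huU : u ∈ U := ⟨t, ht, rfl⟩
    have haU : a ∈ U := ⟨a₀, ha₀, rfl⟩
    have hu1 : u ≠ 1 := fun h => ht1 (conj_eq_one_iff.1 h)
    have ha1 : a ≠ 1 := fun h => ha₀1 (conj_eq_one_iff.1 h)
    have hafix : a • g • ω₀ = g • ω₀ := by
      rw [ha', ← mul_smul, inv_mul_cancel_right, mul_smul, hω₀]
    have hmul : ∀ v ∈ U, ∀ ω : Ω, (t * v) • ω ≠ ω := by
      intro v hv ω h
      obtain ⟨b, hb, hb1, hbfix⟩ := exists_fixer hT ha₀ ha₀1 hω₀ ω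
      exact hder ω (fix_of_fix_mul hN hT ht (fun w hw => (hT.commute hU hTU hw hv).symm) (hU.le hv)
        h hb hb1 hbfix)
    have hnf : ∀ v ∈ U, v ≠ 1 → ¬ IsConj t (t * v) := by
      intro v hv hv1 h
      obtain ⟨c, hc⟩ := isConj_iff.1 h
      exact mul_not_mem_factor hN hnc hT hU (hT.conj hN c) hTU ht hv ht1 hv1 ⟨t, ht, hc⟩
    refine three t (t * u) (t * a) hder (hmul u huU) (hmul a haU) (hnf u huU hu1) (hnf a haU ha1)
      fun h => ?_
    obtain ⟨c, hc⟩ := isConj_iff.1 h.symm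
    -- `a` fixes a point but neither `t` nor `u` does
    have hfix : (c * a * c⁻¹) • c • g • ω₀ = c • g • ω₀ := by
      rw [← mul_smul, inv_mul_cancel_right, mul_smul, hafix]
    rcases conj_components hN hnc hT hU hTU ht haU ht huU ht1 ha1 hc with ⟨-, h2⟩ | ⟨-, h2⟩
    · rw [h2, hu', mul_smul, mul_smul, smul_eq_iff_eq_inv_smul] at hfix
      exact hder _ hfix
    · rw [h2] at hfix
      exact hder _ hfix

/-- In a primitive group of affine type, an element fixing two points yields a derangement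
outside the regular normal subgroup. -/
theorem exists_derangement_not_mem [Finite G] [Finite Ω] {N : Subgroup G} [N.Normal]
    [IsPretransitive N Ω] (hNc : IsMulCommutative N) {g : G} (hg : g ≠ 1) {a b : Ω} (hab : a ≠ b)
    (ha : g • a = a) (hb : g • b = b) : ∃ x : G, x ∉ N ∧ ∀ ω : Ω, x • ω ≠ ω := by
  have hcomm : ∀ x ∈ N, ∀ y ∈ N, x * y = y * x := fun x hx y hy =>
    congrArg Subtype.val (hNc.is_comm.comm (⟨x, hx⟩ : N) ⟨y, hy⟩)
  have inj : ∀ x ∈ N, ∀ y ∈ N, x • a = y • a → x = y := by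
    intro x hx y hy h
    have h1 : (y⁻¹ * x) • a = a := by rw [mul_smul, h, inv_smul_smul]
    exact (inv_mul_eq_one.1 (eq_one_of_fix_of_commute
      (fun m hm => hcomm _ (N.mul_mem (N.inv_mem hy) hx) m hm) h1)).symm
  let f : N → N := fun n => ⟨(n : G) * (g * (n : G)⁻¹ * g⁻¹), N.mul_mem n.2
    (Subgroup.Normal.conj_mem inferInstance _ (N.inv_mem n.2) g)⟩
  obtain ⟨n₀, hn₀⟩ : ∃ n₀, ∀ n, f n ≠ n₀ := by
    by_contra hno
    push Not at hno
    have hinj : Function.Injective f := Finite.injective_iff_surjective.2 hno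
    obtain ⟨⟨n, hn⟩, hnb⟩ := exists_smul_eq N a b
    change n • a = b at hnb
    have h1 : g * n * g⁻¹ = n := inj _ (Subgroup.Normal.conj_mem inferInstance n hn g) n hn (by
      rw [mul_smul, mul_smul, inv_smul_eq_iff.2 ha.symm, hnb, hb])
    have h2 : f ⟨n, hn⟩ = f 1 := Subtype.ext (by
      show n * (g * n⁻¹ * g⁻¹) = ((1 : N) : G) * (g * ((1 : N) : G)⁻¹ * g⁻¹)
      rw [Subgroup.coe_one, inv_one, mul_one, mul_inv_cancel, one_mul,
        show g * n⁻¹ * g⁻¹ = (g * n * g⁻¹)⁻¹ by group, h1, mul_inv_cancel])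
    have := congrArg Subtype.val (hinj h2)
    rw [Subgroup.coe_one] at this
    change n = 1 at this
    rw [this, one_smul] at hnb
    exact hab hnb
  refine ⟨n₀ * g, fun h => hg ?_, fun ω hω => ?_⟩
  · exact eq_one_of_fix_of_commute
      (fun m hm => hcomm _ ((Subgroup.mul_mem_cancel_left N n₀.2).1 h) m hm) ha
  · obtain ⟨⟨m, hm⟩, rfl⟩ := exists_smul_eq N a ω
    change ((n₀ : G) * g) • m • a = m • a at hω
    have e : g * m * g⁻¹ ∈ N := Subgroup.Normal.conj_mem inferInstance m hm g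
    have h1 : m⁻¹ * ((n₀ : G) * (g * m * g⁻¹)) = 1 := by
      refine eq_one_of_fix_of_commute
        (fun x hx => hcomm _ (N.mul_mem (N.inv_mem hm) (N.mul_mem n₀.2 e)) x hx) (ω := a) ?_
      rw [mul_smul, mul_smul, mul_smul, mul_smul, inv_smul_eq_iff.2 ha.symm, ← mul_smul (n₀ : G) g,
        hω, inv_smul_smul]
    refine hn₀ ⟨m, hm⟩ (Subtype.ext ?_)
    show m * (g * m⁻¹ * g⁻¹) = (n₀ : G)
    rw [inv_mul_eq_one] at h1
    rw [show g * m⁻¹ * g⁻¹ = (g * m * g⁻¹)⁻¹ by group, mul_inv_eq_iff_eq_mul]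
    exact h1

end CfsgLib.MinNormal
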