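import Mathlib

/-!
# No non-abelian simple group has all centralisers maximal

Let a group `H` have a non-abelian simple normal subgroup `M`, and for `x ∈ M` a subgroup `S x` of
`H` meeting `M` in the centraliser of `x`, with `S x ≤ S (x ^ k)`.  Then some `S x`, `x ≠ 1`, is not
maximal in `H`: otherwise all centralisers of nontrivial elements of `M` would be Sylow subgroups of
`M`, which the class equation forbids.  No odd order theorem is needed.
-/

set_option autoImplicit false

namespace CfsgLib.MinNormal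

variable {M : Type*} [Group M] [Finite M]

/-- A `p`-subgroup containing all `p`-elements of its normaliser is a Sylow subgroup. -/
theorem exists_sylow_eq (p : ℕ) [Fact p.Prime] (Q : Subgroup M) (hQ : IsPGroup p Q)
    (h : ∀ y ∈ Subgroup.normalizer (Q : Set M), (∃ k, y ^ p ^ k = 1) → y ∈ Q) :
    ∃ P : Sylow p M, (P : Subgroup M) = Q := by
  obtain ⟨P, hQP⟩ := hQ.exists_le_sylow
  refine ⟨P, le_antisymm ?_ hQP⟩
  by_contra hne
  haveI : Group.IsNilpotent (P : Subgroup M) := P.isPGroup'.isNilpotent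
  have hlt : Q.subgroupOf P < ⊤ :=
    lt_top_iff_ne_top.2 fun e => hne (Subgroup.subgroupOf_eq_top.1 e)
  obtain ⟨x, hx, hxn⟩ := SetLike.exists_of_lt (Group.normalizerCondition_of_isNilpotent _ hlt)
  refine hxn (Subgroup.mem_subgroupOf.2 (h _ ?_ ?_))
  · rw [Subgroup.mem_normalizer_iff]
    rw [Subgroup.mem_normalizer_iff] at hx
    intro y
    constructor
    · intro hy
      simpa [Subgroup.mem_subgroupOf] using (hx ⟨y, hQP hy⟩).1 hy
    · intro hy
      have hyP : y ∈ (P : Subgroup M) := by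
        have := P.mul_mem (P.mul_mem (P.inv_mem x.2) (hQP hy)) x.2
        simpa [mul_assoc] using this
      simpa [Subgroup.mem_subgroupOf] using (hx ⟨y, hyP⟩).2 (by simpa [Subgroup.mem_subgroupOf] using hy)
  · obtain ⟨k, hk⟩ := P.isPGroup' x
    exact ⟨k, congrArg Subtype.val hk⟩

/-- In a non-abelian simple group no nontrivial Sylow subgroup is centralised by its normaliser. -/
theorem not_normalizer_le_centralizer [IsSimpleGroup M] (hnc : ¬ IsMulCommutative M) (p : ℕ)
    [Fact p.Prime] (P : Sylow p M) (hP : (P : Subgroup M) ≠ ⊥) :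
    ¬ Subgroup.normalizer ((P : Subgroup M) : Set M) ≤ Subgroup.centralizer (P : Set M) := by
  intro hle
  have hcompl := MonoidHom.ker_transferSylow_isComplement' P hle
  rcases IsSimpleGroup.eq_bot_or_eq_top_of_normal (MonoidHom.transferSylow P hle).ker inferInstance
    with h | h
  · rw [h, Subgroup.isComplement'_bot_left] at hcompl
    refine hnc ⟨⟨fun a b => ?_⟩⟩
    have ha : a ∈ (P : Subgroup M) := hcompl ▸ Subgroup.mem_top a
    have hb : b ∈ Subgroup.normalizer ((P : Subgroup M) : Set M) :=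
      Subgroup.le_normalizer (hcompl ▸ Subgroup.mem_top b)
    exact Subgroup.mem_centralizer_iff.1 (hle hb) a ha
  · rw [h, Subgroup.isComplement'_top_left] at hcompl
    exact hP hcompl

/-- The class equation cannot be satisfied if every nontrivial element is central in a Sylow
subgroup which is its whole centraliser. -/
theorem not_forall_centralizer_sylow [IsSimpleGroup M] (hnc : ¬ IsMulCommutative M)
    (h : ∀ x : M, x ≠ 1 → ∃ p : ℕ, p.Prime ∧ ∃ P : Sylow p M,
      (P : Subgroup M) = Subgroup.centralizer {x} ∧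
      Subgroup.normalizer ((P : Subgroup M) : Set M) = P) : False := by
  classical
  cases nonempty_fintype M
  set n := Nat.card M with hn
  have h1 : ∀ p ∈ n.primeFactors, ∃ P : Sylow p M, ∀ (z : M), z ≠ 1 → ∀ (Q : Sylow p M),
      (Q : Subgroup M) = Subgroup.centralizer {z} → ∃ g : M, g * z * g⁻¹ ∈ (P : Subgroup M) ⊓
        Subgroup.centralizer ((P : Subgroup M) : Set M) := by
    intro p hp
    haveI := Fact.mk (Nat.prime_of_mem_primeFactors hp)
    obtain ⟨P⟩ : Nonempty (Sylow p M) := inferInstance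
    refine ⟨P, fun z hz Q hQ => ?_⟩
    obtain ⟨g, hg⟩ := MulAction.exists_smul_eq M Q P
    have hmap : (P : Subgroup M) = (Q : Subgroup M).map (MulAut.conj g).toMonoidHom := by
      rw [← hg]; rfl
    refine ⟨g, ?_, ?_⟩
    · rw [hmap]
      exact ⟨z, by rw [hQ]; exact Subgroup.mem_centralizer_iff.2 (by simp), rfl⟩
    · refine Subgroup.mem_centralizer_iff.2 fun y hy => ?_
      rw [SetLike.mem_coe, hmap] at hy
      obtain ⟨y, hy, rfl⟩ := hy
      rw [SetLike.mem_coe, hQ] at hy
      have e := Subgroup.mem_centralizer_iff.1 hy z rfl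
      show g * y * g⁻¹ * (g * z * g⁻¹) = g * z * g⁻¹ * (g * y * g⁻¹)
      rw [show g * y * g⁻¹ * (g * z * g⁻¹) = g * (y * z) * g⁻¹ by group, ← e]
      group
  choose P hP using h1
  -- representatives: nontrivial central elements of the chosen Sylow subgroups
  let Z : ∀ p, p ∈ n.primeFactors → Finset M := fun p hp =>
    Finset.univ.filter fun z => z ≠ 1 ∧ z ∈ (P p hp : Subgroup M) ⊓
      Subgroup.centralizer ((P p hp : Subgroup M) : Set M)
  have hcov : (Finset.univ.erase (1 : M)) ⊆ n.primeFactors.attach.biUnion fun p =>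
      (Z p.1 p.2).biUnion fun z => (ConjClasses.mk z).carrier.toFinset := by
    intro x hx
    have hx1 := Finset.ne_of_mem_erase hx
    obtain ⟨p, hp, Q, hQ, -⟩ := h x hx1
    have hxQ : x ∈ (Q : Subgroup M) := by
      rw [hQ]; exact Subgroup.mem_centralizer_iff.2 (by simp)
    have hpn : p ∈ n.primeFactors := by
      refine Nat.mem_primeFactors.2 ⟨hp, ?_, Nat.card_pos.ne'⟩
      obtain ⟨k, hk⟩ := Q.isPGroup' ⟨x, hxQ⟩
      have hd : orderOf x ∣ p ^ k := orderOf_dvd_of_pow_eq_one (congrArg Subtype.val hk)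
      obtain ⟨i, -, hi⟩ := (Nat.dvd_prime_pow hp).1 hd
      rcases Nat.eq_zero_or_pos i with rfl | hi0
      · exact absurd (orderOf_eq_one_iff.1 (by simpa using hi)) hx1
      · exact dvd_trans (dvd_pow_self p hi0.ne') (hi ▸ orderOf_dvd_natCard x)
    obtain ⟨g, hg⟩ := hP p hpn x hx1 Q hQ
    refine Finset.mem_biUnion.2 ⟨⟨p, hpn⟩, Finset.mem_attach _ _,
      Finset.mem_biUnion.2 ⟨g * x * g⁻¹, ?_, ?_⟩⟩
    · exact Finset.mem_filter.2 ⟨Finset.mem_univ _, fun e => hx1 (conj_eq_one_iff.1 e), hg⟩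
    · rw [Set.mem_toFinset, ConjClasses.mem_carrier_iff_mk_eq, ConjClasses.mk_eq_mk_iff_isConj]
      exact isConj_iff.2 ⟨g, rfl⟩
  -- each prime contributes at most `n / p ^ 2`
  have hbound : ∀ p : {p // p ∈ n.primeFactors},
      ((Z p.1 p.2).biUnion fun z => (ConjClasses.mk z).carrier.toFinset).card * p.1 ^ 2 ≤ n := by
    rintro ⟨p, hp⟩
    haveI := Fact.mk (Nat.prime_of_mem_primeFactors hp)
    set Q := P p hp with hQdef
    set C := (Q : Subgroup M) ⊓ Subgroup.centralizer ((Q : Subgroup M) : Set M) with hC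
    have hzC : ∀ z ∈ Z p hp, Subgroup.centralizer {z} = (Q : Subgroup M) ∧
        Subgroup.normalizer ((Q : Subgroup M) : Set M) = Q := by
      intro z hz
      obtain ⟨hz1, hzQ, hzc⟩ := (Finset.mem_filter.1 hz).2
      obtain ⟨q, hq, R, hR, hRn⟩ := h z hz1
      have hle : (Q : Subgroup M) ≤ R := by
        rw [hR]
        exact fun y hy => Subgroup.mem_centralizer_iff.2 (by
          rintro _ rfl; exact (Subgroup.mem_centralizer_iff.1 hzc y hy).symm)
      have hpq : p = q := by
        haveI := Fact.mk hq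
        have hcQ : (Nat.card (Q : Subgroup M)).factorization p ≠ 0 := by
          rw [Sylow.card_eq_multiplicity, Nat.factorization_pow_self Fact.out]
          exact (Nat.Prime.factorization_pos_of_dvd Fact.out Nat.card_pos.ne'
            (Nat.dvd_of_mem_primeFactors hp)).ne'
        have hpR : p ∣ Nat.card (R : Subgroup M) :=
          (Nat.dvd_of_factorization_pos hcQ).trans (Subgroup.card_dvd_of_le hle)
        obtain ⟨k, hk⟩ := IsPGroup.iff_card.1 R.isPGroup'
        rw [hk] at hpR
        exact (Nat.prime_dvd_prime_iff_eq Fact.out hq).1 ((Fact.out : p.Prime).dvd_of_dvd_pow hpR)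
      subst hpq
      have hQR : (Q : Subgroup M) = R := (Q.3 R.isPGroup' hle).symm
      exact ⟨hR.symm.trans hQR.symm, by rw [hQR, hRn]⟩
    rcases (Z p hp).eq_empty_or_nonempty with he | ⟨z₀, hz₀⟩
    · simp [he]
    have hQne : (Q : Subgroup M) ≠ ⊥ := by
      intro e
      obtain ⟨hz1, hzQ, -⟩ := (Finset.mem_filter.1 hz₀).2
      have hzQ' : z₀ ∈ (Q : Subgroup M) := hzQ
      rw [e, Subgroup.mem_bot] at hzQ'
      exact hz1 hzQ'
    have hnab : ¬ IsMulCommutative (Q : Subgroup M) := by
      intro hab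
      refine not_normalizer_le_centralizer hnc p Q hQne ?_
      rw [(hzC z₀ hz₀).2]
      exact fun y hy => Subgroup.mem_centralizer_iff.2 fun w hw =>
        congrArg Subtype.val (hab.is_comm.comm (⟨w, hw⟩ : (Q : Subgroup M)) ⟨y, hy⟩)
    -- the centre of `Q` has index at least `p ^ 2`
    have hCidx : Nat.card C * p ^ 2 ≤ Nat.card (Q : Subgroup M) := by
      set C' := Subgroup.center (Q : Subgroup M) with hC'
      have hcc : Nat.card C = Nat.card C' := by
        refine Nat.card_congr
          { toFun := fun y => ⟨⟨y.1, y.2.1⟩, Subgroup.mem_center_iff.2 fun w =>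
              Subtype.ext (Subgroup.mem_centralizer_iff.1 y.2.2 w w.2)⟩
            invFun := fun y => ⟨y.1.1, y.1.2, Subgroup.mem_centralizer_iff.2 fun w hw =>
              congrArg Subtype.val (Subgroup.mem_center_iff.1 y.2 ⟨w, hw⟩)⟩
            left_inv := fun y => rfl
            right_inv := fun y => rfl }
      obtain ⟨k, hk⟩ := Q.isPGroup'.index C'
      have hk2 : 2 ≤ k := by
        by_contra hlt
        have : IsCyclic ((Q : Subgroup M) ⧸ C') := by
          interval_cases k
          · have : Subsingleton ((Q : Subgroup M) ⧸ C') :=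
              (Nat.card_eq_one_iff_unique.1 (hk.trans (pow_zero p))).1
            exact isCyclic_of_subsingleton
          · exact isCyclic_of_prime_card (p := p) (hk.trans (pow_one p))
        exact hnab ⟨⟨commutative_of_cyclic_center_quotient (QuotientGroup.mk' C')
          (by rw [QuotientGroup.ker_mk'])⟩⟩
      rw [hcc, ← Subgroup.card_mul_index C', hk]
      exact Nat.mul_le_mul_left _ (Nat.pow_le_pow_right (Fact.out : p.Prime).pos hk2)
    have hcard : ∀ z ∈ Z p hp, (ConjClasses.mk z).carrier.toFinset.card =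
        (Q : Subgroup M).index := by
      intro z hz
      rw [← Set.ncard_eq_toFinset_card', ← ConjAct.orbit_eq_carrier_conjClasses,
        ← MulAction.index_stabilizer]
      have h' := Subgroup.card_mul_index (Subgroup.centralizer ({z} : Set M))
      rw [Subgroup.nat_card_centralizer_nat_card_stabilizer] at h'
      have h'' : Nat.card (MulAction.stabilizer (ConjAct M) z) *
          (MulAction.stabilizer (ConjAct M) z).index = Nat.card M :=
        (Subgroup.card_mul_index _).trans (Nat.card_congr ConjAct.ofConjAct.toEquiv)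
      rw [← h', (hzC z hz).1] at h''
      haveI : Finite (ConjAct M) := ‹Finite M›
      exact Nat.eq_of_mul_eq_mul_left Nat.card_pos h''
    have hZC : (Z p hp).card ≤ Nat.card C := by
      rw [Nat.card_eq_fintype_card, Fintype.card_subtype]
      exact Finset.card_le_card fun z hz => Finset.mem_filter.2
        ⟨Finset.mem_univ _, (Finset.mem_filter.1 hz).2.2⟩
    calc ((Z p hp).biUnion fun z => (ConjClasses.mk z).carrier.toFinset).card * p ^ 2
        ≤ (∑ z ∈ Z p hp, (ConjClasses.mk z).carrier.toFinset.card) * p ^ 2 :=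
          Nat.mul_le_mul_right _ Finset.card_biUnion_le
      _ = (Z p hp).card * (Q : Subgroup M).index * p ^ 2 := by
          rw [Finset.sum_congr rfl hcard, Finset.sum_const, smul_eq_mul]
      _ ≤ Nat.card C * p ^ 2 * (Q : Subgroup M).index := by
          rw [mul_right_comm]
          exact Nat.mul_le_mul_right _ (Nat.mul_le_mul_right _ hZC)
      _ ≤ Nat.card (Q : Subgroup M) * (Q : Subgroup M).index := Nat.mul_le_mul_right _ hCidx
      _ = n := Subgroup.card_mul_index _
  have hsum : ((n : ℚ) - 1) ≤ ∑ p ∈ n.primeFactors, (n : ℚ) / (p : ℚ) ^ 2 := by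
    have h2 : n - 1 ≤ ∑ p ∈ n.primeFactors.attach,
        ((Z p.1 p.2).biUnion fun z => (ConjClasses.mk z).carrier.toFinset).card := by
      refine le_trans ?_ ((Finset.card_le_card hcov).trans Finset.card_biUnion_le)
      rw [Finset.card_erase_of_mem (Finset.mem_univ _), Finset.card_univ, hn,
        Nat.card_eq_fintype_card]
    have h3 : ((n - 1 : ℕ) : ℚ) ≤ ∑ p ∈ n.primeFactors.attach, (n : ℚ) / (p.1 : ℚ) ^ 2 := by
      refine le_trans (Nat.cast_le.2 h2) ?_
      rw [Nat.cast_sum]
      refine Finset.sum_le_sum fun p _ => ?_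
      rw [le_div_iff₀ (by have := (Nat.prime_of_mem_primeFactors p.2).pos; positivity)]
      exact_mod_cast hbound p
    rw [Finset.sum_attach n.primeFactors (fun p => (n : ℚ) / (p : ℚ) ^ 2), Nat.cast_sub Nat.card_pos]
      at h3
    rw [Nat.cast_one] at h3
    exact h3
  -- `∑ 1 / p ^ 2 ≤ 3 / 4`
  have htail : ∀ m : ℕ, ∑ i ∈ Finset.range m, (1 : ℚ) / ((i : ℚ) + 3) ^ 2 ≤ 1 / 2 - 1 / ((m : ℚ) + 2) := by
    intro m
    induction m with
    | zero => simp
    | succ m ih =>
      rw [Finset.sum_range_succ]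
      have hm : (0 : ℚ) ≤ (m : ℚ) := Nat.cast_nonneg m
      have : (1 : ℚ) / ((m : ℚ) + 3) ^ 2 ≤ 1 / ((m : ℚ) + 2) - 1 / ((m : ℚ) + 3) := by
        rw [div_sub_div _ _ (by positivity) (by positivity), div_le_div_iff₀ (by positivity) (by positivity)]
        nlinarith
      rw [Nat.cast_succ, show (m : ℚ) + 1 + 2 = (m : ℚ) + 3 by ring]
      linarith
  have hrec : ∑ p ∈ n.primeFactors, (n : ℚ) / (p : ℚ) ^ 2 ≤ (n : ℚ) * (3 / 4) := by
    have h2 : n.primeFactors ⊆ insert (2 : ℕ) ((Finset.range (n + 1)).image (fun i : ℕ => i + 3)) := by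
      intro p hp
      rcases (Nat.prime_of_mem_primeFactors hp).two_le.eq_or_lt with h2 | h2
      · exact Finset.mem_insert.2 (Or.inl h2.symm)
      · refine Finset.mem_insert_of_mem (Finset.mem_image.2 ⟨p - 3, ?_, by omega⟩)
        have := Nat.le_of_mem_primeFactors hp
        exact Finset.mem_range.2 (by omega)
    calc ∑ p ∈ n.primeFactors, (n : ℚ) / (p : ℚ) ^ 2
        ≤ ∑ p ∈ insert (2 : ℕ) ((Finset.range (n + 1)).image (fun i : ℕ => i + 3)), (n : ℚ) / (p : ℚ) ^ 2 :=
          Finset.sum_le_sum_of_subset_of_nonneg h2 fun _ _ _ => by positivity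
      _ = (n : ℚ) * (1 / 4 + ∑ i ∈ Finset.range (n + 1), (1 : ℚ) / ((i : ℚ) + 3) ^ 2) := by
          rw [Finset.sum_insert (by simp), Finset.sum_image (fun a _ b _ e => by omega), mul_add,
            Finset.mul_sum]
          congr 1
          · norm_num; ring
          · exact Finset.sum_congr rfl fun i _ => by push_cast; rw [mul_one_div]
      _ ≤ (n : ℚ) * (3 / 4) := by
          refine mul_le_mul_of_nonneg_left ?_ (Nat.cast_nonneg n)
          have := htail (n + 1)
          have h0 : (0 : ℚ) ≤ 1 / (((n + 1 : ℕ) : ℚ) + 2) := by positivity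
          linarith
  have h5 : 5 ≤ n := by
    by_contra hlt
    push Not at hlt
    have hpos : 0 < n := Nat.card_pos
    have hnt : 1 < n := Finite.one_lt_card
    interval_cases hn' : n
    · haveI := isCyclic_of_prime_card (α := M) (p := 2) hn.symm
      exact hnc ⟨⟨fun a b => IsCyclic.commGroup.mul_comm a b⟩⟩
    · haveI := isCyclic_of_prime_card (α := M) (p := 3) hn.symm
      exact hnc ⟨⟨fun a b => IsCyclic.commGroup.mul_comm a b⟩⟩
    · exact hnc ⟨⟨IsPGroup.commutative_of_card_eq_prime_sq (p := 2) hn.symm⟩⟩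
  have : (5 : ℚ) ≤ n := by exact_mod_cast h5
  linarith

variable {H : Type*} [Group H] [Finite H]

/-- **Main lemma**: no family of maximal subgroups `S x` of `H` meets a non-abelian simple normal
subgroup `M` exactly in the centralisers of its nontrivial elements, compatibly with powers. -/
theorem not_all_maximal (M : Subgroup H) [hMn : M.Normal] [IsSimpleGroup M]
    (hnc : ¬ IsMulCommutative M) (S : M → Subgroup H)
    (hS : ∀ x : M, (S x).comap M.subtype = Subgroup.centralizer {x})
    (hmax : ∀ x : M, x ≠ 1 → IsCoatom (S x))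
    (hpow : ∀ (x : M) (k : ℕ), S x ≤ S (x ^ k)) : False := by
  classical
  set C : M → Subgroup M := fun x => Subgroup.centralizer {x} with hC
  have hmemC : ∀ x y : M, y ∈ C x ↔ x * y = y * x := fun x y => by
    rw [hC, Subgroup.mem_centralizer_iff]; simp
  have hsame : ∀ x y : M, x ≠ 1 → y ≠ 1 → S x ≤ S y → S x = S y := fun x y hx hy hle =>
    ((hmax x hx).le_iff.1 hle).resolve_left (hmax y hy).1 |>.symm
  have hcop : ∀ x y : M, x ≠ 1 → y ≠ 1 → Commute x y → (orderOf x).Coprime (orderOf y) → S x = S y := by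
    intro x y hx hy hc hco
    have hxy : x * y ≠ 1 := by
      intro e
      have h1 := hc.orderOf_mul_eq_mul_orderOf_of_coprime hco
      rw [e, orderOf_one] at h1
      exact hx (orderOf_eq_one_iff.1 (Nat.eq_one_of_mul_eq_one_right h1.symm))
    have key : ∀ a b : M, Commute a b → (orderOf a).Coprime (orderOf b) → S (a * b) ≤ S a := by
      intro a b hab hcb
      obtain ⟨m, hm⟩ := exists_pow_eq_self_of_coprime hcb.symm
      calc S (a * b) ≤ S ((a * b) ^ (orderOf b * m)) := hpow _ _
        _ = S a := by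
          rw [hab.mul_pow, pow_mul b, pow_orderOf_eq_one, one_pow, mul_one, pow_mul, hm]
    have h1 := hsame _ _ hxy hx (key x y hc hco)
    have h2 := hsame _ _ hxy hy (by rw [hc.eq]; exact key y x hc.symm hco.symm)
    exact h1.symm.trans h2
  -- a subgroup of `M` normalised by `S x` has normaliser `C x`
  have hN : ∀ x : M, x ≠ 1 → ∀ Q : Subgroup M, Q ≠ ⊥ → Q ≠ ⊤ →
      (∀ s ∈ S x, ∀ q ∈ Q, (⟨s * q * s⁻¹, hMn.conj_mem q q.2 s⟩ : M) ∈ Q) →
      Subgroup.normalizer (Q : Set M) ≤ C x := by
    intro x hx Q hQb hQt hQn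
    set Q' := Q.map M.subtype with hQ'
    have hle : S x ≤ Subgroup.normalizer (Q' : Set H) := by
      have key : ∀ s ∈ S x, ∀ y ∈ Q', s * y * s⁻¹ ∈ Q' := by
        rintro s hs _ ⟨q, hq, rfl⟩
        exact ⟨_, hQn s hs q hq, rfl⟩
      intro s hs
      rw [Subgroup.mem_normalizer_iff]
      refine fun y => ⟨key s hs y, fun hy => ?_⟩
      have := key s⁻¹ ((S x).inv_mem hs) _ hy
      simpa [mul_assoc] using this
    rcases (hmax x hx).le_iff.1 hle with h | h
    · exfalso
      have hn : Q.Normal := ⟨fun q hq g => by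
        have hgn : (g : H) ∈ Subgroup.normalizer (Q' : Set H) := h.symm ▸ Subgroup.mem_top (g : H)
        obtain ⟨r, hr, hre⟩ : (g : H) * q * (g : H)⁻¹ ∈ Q' :=
          (Subgroup.mem_normalizer_iff.1 hgn q).1 ⟨q, hq, rfl⟩
        rwa [show g * q * g⁻¹ = r from Subtype.ext hre.symm]⟩
      rcases IsSimpleGroup.eq_bot_or_eq_top_of_normal Q hn with h' | h'
      · exact hQb h'
      · exact hQt h'
    · intro y hy
      show y ∈ Subgroup.centralizer {x}
      rw [← hS, Subgroup.mem_comap, ← h]
      have h2 : ∀ z : M, (z : H) ∈ Q' ↔ z ∈ Q :=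
        fun z => Subgroup.mem_map_iff_mem M.subtype_injective
      rw [Subgroup.mem_normalizer_iff]
      intro w
      constructor
      · rintro ⟨q, hq, rfl⟩
        exact (h2 _).2 ((Subgroup.mem_normalizer_iff.1 hy q).1 hq)
      · intro hw
        have hwM : M.subtype y * w * (M.subtype y)⁻¹ ∈ M := Subgroup.map_subtype_le Q hw
        have hwM' : w ∈ M := by
          have := M.mul_mem (M.mul_mem (M.inv_mem y.2) hwM) y.2
          simpa [mul_assoc] using this
        exact (h2 ⟨w, hwM'⟩).2 ((Subgroup.mem_normalizer_iff.1 hy ⟨w, hwM'⟩).2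
          ((h2 (y * (⟨w, hwM'⟩ : M) * y⁻¹)).1 hw))
  have hSconj : ∀ x : M, ∀ s ∈ S x, ∀ q ∈ C x, (⟨s * q * s⁻¹, hMn.conj_mem q q.2 s⟩ : M) ∈ C x := by
    intro x s hs q hq
    show _ ∈ Subgroup.centralizer {x}
    rw [← hS, Subgroup.mem_comap]
    have : (q : H) ∈ S x := by
      have hq' : q ∈ Subgroup.centralizer {x} := hq
      rwa [← hS, Subgroup.mem_comap] at hq'
    exact (S x).mul_mem ((S x).mul_mem hs this) ((S x).inv_mem hs)
  have hCtop : ∀ x : M, x ≠ 1 → C x ≠ ⊤ := by
    intro x hx e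
    have hxz : x ∈ Subgroup.center M := Subgroup.mem_center_iff.2 fun y =>
      ((hmemC x y).1 (e ▸ Subgroup.mem_top y)).symm
    rcases IsSimpleGroup.eq_bot_or_eq_top_of_normal (Subgroup.center M) inferInstance with h' | h'
    · exact hx (by rwa [h', Subgroup.mem_bot] at hxz)
    · exact hnc ⟨⟨fun a b => Subgroup.mem_center_iff.1 (h' ▸ Subgroup.mem_top b) a⟩⟩
  refine not_forall_centralizer_sylow hnc fun x hx => ?_
  -- reduce to an element of prime order with the same centraliser
  obtain ⟨p, hp, hpx⟩ := Nat.exists_prime_and_dvd (n := orderOf x) (by simpa using hx)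
  haveI := Fact.mk hp
  set x₀ := x ^ (orderOf x / p) with hx₀
  have ho : orderOf x₀ = p := orderOf_pow_orderOf_div (orderOf_pos x).ne' hpx
  have hx₀1 : x₀ ≠ 1 := fun e => hp.ne_one (by rw [← ho, e, orderOf_one])
  have hSS : S x = S x₀ := hsame x x₀ hx hx₀1 (hpow x _)
  have hCC : C x = C x₀ := by
    show Subgroup.centralizer {x} = Subgroup.centralizer {x₀}
    rw [← hS, ← hS, hSS]
  refine ⟨p, hp, ?_⟩
  show ∃ P : Sylow p M, (P : Subgroup M) = C x ∧ Subgroup.normalizer ((P : Subgroup M) : Set M) = P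
  rw [hCC]
  -- every element of order prime to `p` in the centraliser is central there
  have hx₀C : x₀ ∈ C x₀ := (hmemC _ _).2 rfl
  by_cases hpg : IsPGroup p (C x₀)
  · have hnorm : Subgroup.normalizer (C x₀ : Set M) = C x₀ := by
      refine le_antisymm (hN x₀ hx₀1 _ (fun e => hx₀1 (by rwa [e, Subgroup.mem_bot] at hx₀C))
        (hCtop x₀ hx₀1) (hSconj x₀)) Subgroup.le_normalizer
    obtain ⟨P, hP⟩ := exists_sylow_eq p (C x₀) hpg (fun y hy _ => by rwa [hnorm] at hy)
    exact ⟨P, hP, by rw [hP, hnorm]⟩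
  -- otherwise the centraliser is abelian, against Burnside
  exfalso
  obtain ⟨q, hq, hqp, hqC⟩ : ∃ q, q.Prime ∧ q ≠ p ∧ q ∣ Nat.card (C x₀) := by
    by_contra hno
    push Not at hno
    refine hpg (IsPGroup.of_card (n := (Nat.card (C x₀)).primeFactorsList.length) ?_)
    refine Nat.eq_prime_pow_of_unique_prime_dvd Nat.card_pos.ne' fun {d} hd hdT => ?_
    by_contra hne
    exact hno d hd hne hdT
  haveI := Fact.mk hq
  obtain ⟨⟨y, hy⟩, hyo⟩ := exists_prime_orderOf_dvd_card' q hqC
  rw [Subgroup.orderOf_mk] at hyo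
  have hy1 : y ≠ 1 := fun e => hq.ne_one (by rw [← hyo, e, orderOf_one])
  have hSy : S x₀ = S y := hcop x₀ y hx₀1 hy1 ((hmemC _ _).1 hy)
    (by rw [ho, hyo]; exact (Nat.coprime_primes hp hq).2 (Ne.symm hqp))
  have hcen : ∀ z w : M, z ∈ C x₀ → w ∈ C x₀ →
      ((orderOf z).Coprime p ∨ (orderOf z).Coprime q) → z * w = w * z := by
    intro z w hz hw hor
    by_cases hz1 : z = 1
    · simp [hz1]
    have hSz : S x₀ = S z := by
      rcases hor with h' | h'
      · exact hcop x₀ z hx₀1 hz1 ((hmemC _ _).1 hz) (by rw [ho]; exact h'.symm)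
      · have hzy : Commute y z := by
          have : z ∈ Subgroup.centralizer {y} := by
            rw [← hS, ← hSy, hS]; exact hz
          exact (hmemC y z).1 this
        exact hSy.trans (hcop y z hy1 hz1 hzy (by rw [hyo]; exact h'.symm))
    have : w ∈ Subgroup.centralizer {z} := by rw [← hS, ← hSz, hS]; exact hw
    exact (hmemC z w).1 this
  have hab : ∀ z w : M, z ∈ C x₀ → w ∈ C x₀ → z * w = w * z := by
    intro z w hz hw
    set a := orderOf z with ha
    have ha0 : 0 < a := orderOf_pos z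
    set k := a.factorization p
    have hm : a = p ^ k * (a / p ^ k) := (Nat.ordProj_mul_ordCompl_eq_self a p).symm
    have hmp : (a / p ^ k).Coprime p :=
      (Nat.coprime_ordCompl hp ha0.ne').symm
    obtain ⟨u, v, huv⟩ : ∃ u v : ℤ, (p ^ k : ℕ) * u + (a / p ^ k : ℕ) * v = 1 := by
      have := (hmp.symm.pow_left k).isCoprime
      obtain ⟨u, v, huv⟩ := this
      exact ⟨u, v, by linarith⟩
    have h1 : z ^ p ^ k * w = w * z ^ p ^ k := by
      refine hcen _ _ ((C x₀).pow_mem hz _) hw (Or.inl (hmp.coprime_dvd_left ?_))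
      rw [orderOf_dvd_iff_pow_eq_one, ← pow_mul, ← hm, ha, pow_orderOf_eq_one]
    have h2 : z ^ (a / p ^ k) * w = w * z ^ (a / p ^ k) := by
      refine hcen _ _ ((C x₀).pow_mem hz _) hw (Or.inr (Nat.Coprime.coprime_dvd_left ?_
        (((Nat.coprime_primes hp hq).2 (Ne.symm hqp)).pow_left k)))
      rw [orderOf_dvd_iff_pow_eq_one, ← pow_mul, mul_comm, ← hm, ha, pow_orderOf_eq_one]
    have hz' : z = (z ^ p ^ k) ^ u * (z ^ (a / p ^ k)) ^ v := by
      rw [← zpow_natCast z (p ^ k), ← zpow_natCast z (a / p ^ k), ← zpow_mul, ← zpow_mul,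
        ← zpow_add, huv, zpow_one]
    rw [hz']
    exact ((show Commute (z ^ p ^ k) w from h1).zpow_left u).mul_left
      ((show Commute (z ^ (a / p ^ k)) w from h2).zpow_left v)
  let Q : Subgroup M :=
    { carrier := {z | z ∈ C x₀ ∧ ∃ k, z ^ p ^ k = 1}
      one_mem' := ⟨(C x₀).one_mem, 0, by simp⟩
      mul_mem' := by
        rintro a b ⟨ha, i, hi⟩ ⟨hb, j, hj⟩
        refine ⟨(C x₀).mul_mem ha hb, i + j, ?_⟩
        rw [(show Commute a b from hab a b ha hb).mul_pow, pow_add, pow_mul, hi, one_pow,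
          mul_comm (p ^ i), pow_mul, hj, one_pow, one_mul]
      inv_mem' := by
        rintro a ⟨ha, i, hi⟩
        exact ⟨(C x₀).inv_mem ha, i, by rw [inv_pow, hi, inv_one]⟩ }
  have hQne : Q ≠ ⊥ := fun e => hx₀1 (by
    have : x₀ ∈ Q := ⟨hx₀C, 1, by rw [pow_one, ← ho, pow_orderOf_eq_one]⟩
    rwa [e, Subgroup.mem_bot] at this)
  have hQtop : Q ≠ ⊤ := fun e => hCtop x₀ hx₀1
    (top_le_iff.1 fun z _ => (show z ∈ Q by rw [e]; trivial).1)
  have hnorm := hN x₀ hx₀1 Q hQne hQtop (fun s hs z hz => ⟨hSconj x₀ s hs z hz.1, by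
    obtain ⟨i, hi⟩ := hz.2
    refine ⟨i, Subtype.ext ?_⟩
    show (s * (z : H) * s⁻¹) ^ p ^ i = 1
    rw [conj_pow, ← Subgroup.coe_pow, hi, Subgroup.coe_one, mul_one, mul_inv_cancel]⟩)
  obtain ⟨P, hP⟩ := exists_sylow_eq p Q (fun z => by
      obtain ⟨i, hi⟩ := z.2.2
      exact ⟨i, Subtype.ext hi⟩)
    (fun z hz hzp => ⟨hnorm hz, hzp⟩)
  refine not_normalizer_le_centralizer hnc p P (by rw [hP]; exact hQne) ?_
  rw [hP]
  intro z hz
  rw [Subgroup.mem_centralizer_iff]
  intro w hw
  have hw' : w ∈ Q := by rw [← hP]; exact hw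
  exact hab w z hw'.1 (hnorm hz)

end CfsgLib.MinNormal
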