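import Mathlib
import Cfsg.Agent.MinNormal.Action
import Cfsg.Agent.GroupBasics.Conjugates

/-!
# Few classes of derangements in a primitive group
-/

set_option autoImplicit false

open MulAction

namespace CfsgLib.MinNormal

variable {G : Type*} [Group G] {Ω : Type*} [MulAction G Ω]

/-- The conjugacy classes of derangements. -/
abbrev DerClasses (G : Type*) [Group G] (Ω : Type*) [MulAction G Ω] : Type _ :=
  {c : ConjClasses G // ∃ g : G, ConjClasses.mk g = c ∧ ∀ ω : Ω, g • ω ≠ ω}

theorem le_card_derClasses [Finite G] {k : ℕ} (f : Fin k → G) (hd : ∀ i, ∀ ω : Ω, f i • ω ≠ ω)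
    (hf : ∀ i j, IsConj (f i) (f j) → i = j) : k ≤ Nat.card (DerClasses G Ω) := by
  have := Nat.card_le_card_of_injective
    (fun i => (⟨ConjClasses.mk (f i), f i, rfl, hd i⟩ : DerClasses G Ω))
    (fun i j h => hf i j (ConjClasses.mk_eq_mk_iff_isConj.1 (congrArg Subtype.val h)))
  simpa using this

variable [FaithfulSMul G Ω]

/-- A primitive group which is not almost simple and has at most two classes of derangements is of
affine type. -/
theorem exists_abelian_regular [Finite G] [Fintype Ω] [IsPreprimitive G Ω]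
    (hΩ : 2 ≤ Fintype.card Ω)
    (hnas : ¬ ∃ T : Subgroup G, T.Normal ∧ IsSimpleGroup T ∧ ¬ IsMulCommutative T ∧
      Subgroup.centralizer (T : Set G) = ⊥)
    (hk : Nat.card (DerClasses G Ω) ≤ 2) :
    ∃ N : Subgroup G, N.Normal ∧ N ≠ ⊥ ∧ IsMulCommutative N ∧ IsPretransitive N Ω ∧
      ∀ ω : Ω, stabilizer N ω = ⊥ := by
  haveI : Nontrivial Ω := Fintype.one_lt_card_iff_nontrivial.1 hΩ
  have hne : (⊤ : Subgroup G) ≠ ⊥ := by
    intro h
    obtain ⟨a, b, hab⟩ := exists_pair_ne Ω
    obtain ⟨g, hg⟩ := exists_smul_eq G a b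
    have : g ∈ (⊥ : Subgroup G) := h ▸ Subgroup.mem_top g
    rw [Subgroup.mem_bot.1 this, one_smul] at hg
    exact hab hg
  obtain ⟨N, hN, -⟩ := exists_isMinNormal_le (⊤ : Subgroup G) hne
  haveI := hN.normal
  haveI : IsPretransitive N Ω := isPretransitive_of_ne_bot hN.ne_bot
  by_cases hnc : IsMulCommutative N
  · refine ⟨N, hN.normal, hN.ne_bot, hnc, inferInstance, fun ω => ?_⟩
    refine (Subgroup.eq_bot_iff_forall _).2 fun n hn => Subtype.ext ?_
    exact eq_one_of_fix_of_commute
      (fun m hm => congrArg Subtype.val (hnc.is_comm.comm n ⟨m, hm⟩)) hn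
  · exfalso
    obtain ⟨f, hf, hf'⟩ := exists_three_derangements (Ω := Ω) hN hnc hnas
    have := le_card_derClasses f hf hf'
    omega

/-- In the affine case conjugate elements of the regular subgroup are conjugate by the point
stabilizer, so a single class means double transitivity. -/
theorem is_two_pretransitive {N : Subgroup G} [IsPretransitive N Ω] [IsPretransitive G Ω]
    (hNc : IsMulCommutative N)
    (h : ∀ x ∈ N, ∀ y ∈ N, x ≠ 1 → y ≠ 1 → IsConj x y) :
    IsMultiplyPretransitive G Ω 2 := by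
  rw [is_two_pretransitive_iff]
  -- move the first point, then use an element of the stabilizer
  have key : ∀ a b c : Ω, b ≠ a → c ≠ a → ∃ g : G, g • a = a ∧ g • b = c := by
    intro a b c hb hc
    obtain ⟨⟨x, hx⟩, rfl⟩ := exists_smul_eq N a b
    obtain ⟨⟨y, hy⟩, rfl⟩ := exists_smul_eq N a c
    obtain ⟨g, hg⟩ := isConj_iff.1 (h x hx y hy (fun e => hb (by subst e; exact one_smul G a))
      (fun e => hc (by subst e; exact one_smul G a)))
    obtain ⟨⟨m, hm⟩, hma⟩ := exists_smul_eq N a (g • a)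
    change m • a = g • a at hma
    have h1 : (m⁻¹ * g) • a = a := by rw [mul_smul, ← hma, inv_smul_smul]
    refine ⟨m⁻¹ * g, h1, ?_⟩
    show (m⁻¹ * g) • x • a = y • a
    have h2 : m⁻¹ * g * x * (m⁻¹ * g)⁻¹ = y := by
      rw [show m⁻¹ * g * x * (m⁻¹ * g)⁻¹ = m⁻¹ * (g * x * g⁻¹) * m by group, hg, mul_assoc,
        show y * m = m * y from congrArg Subtype.val (hNc.is_comm.comm (⟨y, hy⟩ : N) ⟨m, hm⟩),
        inv_mul_cancel_left]
    rw [← h2, ← mul_smul, mul_smul (m⁻¹ * g * x), inv_smul_eq_iff.2 h1.symm]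
  intro a b c d hab hcd
  obtain ⟨g, hg⟩ := exists_smul_eq G a c
  obtain ⟨h', hh1, hh2⟩ := key c (g • b) d (by
    rw [← hg]; exact fun e => hab (smul_left_cancel g e).symm) hcd.symm
  exact ⟨h' * g, by rw [mul_smul, hg, hh1], by rw [mul_smul, hh2]⟩

/-- A sharply two-transitive group has one class of derangements. -/
theorem card_derClasses_of_sharp [Finite G] [Fintype Ω] (hΩ : 2 ≤ Fintype.card Ω)
    (h2 : IsMultiplyPretransitive G Ω 2)
    (hs : ∀ g : G, g ≠ 1 → ∀ a b : Ω, a ≠ b → g • a = a → g • b ≠ b) :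
    Nat.card (DerClasses G Ω) = 1 := by
  classical
  cases nonempty_fintype G
  haveI := h2
  haveI : IsPretransitive G Ω := isPretransitive_of_is_two_pretransitive
  haveI : Nontrivial Ω := Fintype.one_lt_card_iff_nontrivial.1 hΩ
  haveI : Nonempty Ω := inferInstance
  set n := Fintype.card Ω with hn
  set D := Finset.univ.filter (fun g : G => ∀ ω : Ω, g • ω ≠ ω) with hD
  have hfix1 : ∀ g : G, g ≠ 1 → g ∉ D → Nat.card (fixedBy Ω g) = 1 := by
    intro g hg hgD
    simp only [hD, Finset.mem_filter, Finset.mem_univ, true_and, not_forall, not_not] at hgD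
    obtain ⟨ω, hω⟩ := hgD
    rw [Nat.card_eq_one_iff_unique]
    refine ⟨⟨fun x y => Subtype.ext ?_⟩, ⟨⟨ω, hω⟩⟩⟩
    by_contra hxy
    exact hs g hg x y hxy x.2 y.2
  have hDcard : D.card = n - 1 := by
    have h1D : (1 : G) ∉ D := by
      simp only [hD, Finset.mem_filter, Finset.mem_univ, true_and, not_forall, not_not]
      exact ⟨Classical.arbitrary Ω, one_smul G _⟩
    have hsum := CfsgLib.Derangement.sum_fixedBy_transitive (G := G) (Ω := Ω)
    rw [← Finset.sum_add_sum_compl D, ← Finset.sum_erase_add Dᶜ _ (Finset.mem_compl.2 h1D),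
      Finset.sum_eq_zero (fun g hg => ?_), Finset.sum_congr rfl (fun g hg => hfix1 g
        (Finset.ne_of_mem_erase hg) (Finset.mem_compl.1 (Finset.mem_of_mem_erase hg))),
      Finset.sum_const, smul_eq_mul, mul_one, Finset.card_erase_of_mem (Finset.mem_compl.2 h1D),
      Finset.card_compl, show fixedBy Ω (1 : G) = Set.univ from fixedBy_one_eq_univ Ω G,
      Nat.card_univ, Nat.card_eq_fintype_card, Nat.card_eq_fintype_card, zero_add, ← hn] at hsum
    · have hle : D.card ≤ (Finset.univ.erase (1 : G)).card :=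
        Finset.card_le_card fun g hg => Finset.mem_erase.2 ⟨fun e => h1D (e ▸ hg), Finset.mem_univ g⟩
      rw [Finset.card_erase_of_mem (Finset.mem_univ _), Finset.card_univ] at hle
      omega
    · simp only [hD, Finset.mem_filter, Finset.mem_univ, true_and] at hg
      haveI : IsEmpty (fixedBy Ω g) := ⟨fun x => hg x.1 x.2⟩
      exact Nat.card_of_isEmpty
  have hG : n * (n - 1) ≤ Nat.card G := by
    obtain ⟨a, b, hab⟩ := exists_pair_ne Ω
    have hsub : (Finset.univ : Finset Ω).offDiag ⊆
        (Finset.univ : Finset G).image (fun g => (g • a, g • b)) := by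
      rintro ⟨c, d⟩ hcd
      obtain ⟨g, hg1, hg2⟩ := is_two_pretransitive_iff.1 h2 hab
        (Finset.mem_offDiag.1 hcd).2.2
      exact Finset.mem_image.2 ⟨g, Finset.mem_univ g, by rw [hg1, hg2]⟩
    have := (Finset.card_le_card hsub).trans Finset.card_image_le
    rwa [Finset.offDiag_card, Finset.card_univ, Finset.card_univ, ← hn,
      ← Nat.mul_sub_one, ← Nat.card_eq_fintype_card] at this
  have hclass : ∀ x : G, (∀ ω : Ω, x • ω ≠ ω) →
      (ConjClasses.mk x).carrier = ↑D := by
    intro x hx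
    have hsub : (ConjClasses.mk x).carrier ⊆ ↑D := by
      intro y hy
      rw [ConjClasses.mem_carrier_iff_mk_eq, ConjClasses.mk_eq_mk_iff_isConj] at hy
      obtain ⟨c, rfl⟩ := isConj_iff.1 hy.symm
      simp only [hD, Finset.coe_filter, Finset.mem_univ, true_and, Set.mem_ofPred_eq]
      intro ω h
      rw [mul_smul, mul_smul, smul_eq_iff_eq_inv_smul] at h
      exact hx _ h
    refine Set.eq_of_subset_of_ncard_le hsub ?_ (Finset.finite_toSet D)
    rw [Set.ncard_coe_finset, hDcard, CfsgLib.GroupBasics.card_carrier_eq_index_centralizer]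
    set C := Subgroup.centralizer ({x} : Set G)
    have hC : Nat.card C ≤ n := by
      rw [hn, ← Nat.card_eq_fintype_card]
      refine Nat.card_le_card_of_injective (fun c : C => (c : G) • Classical.arbitrary Ω) ?_
      intro c d hcd
      by_contra hne
      set a := Classical.arbitrary Ω
      have he : ((d⁻¹ * c : C) : G) ≠ 1 := fun e => hne (inv_mul_eq_one.1 (Subtype.ext e)).symm
      have hea : ((d⁻¹ * c : C) : G) • a = a := by
        rw [Subgroup.coe_mul, mul_smul, show (c : G) • a = (d : G) • a from hcd, Subgroup.coe_inv,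
          inv_smul_smul]
      refine hs _ he a (x • a) (fun e => hx a e.symm) hea ?_
      have hcx : x * ((d⁻¹ * c : C) : G) = ((d⁻¹ * c : C) : G) * x :=
        Subgroup.mem_centralizer_iff.1 (d⁻¹ * c).2 x (Set.mem_singleton x)
      rw [← mul_smul, ← hcx, mul_smul, hea]
    have hmul := Subgroup.card_mul_index C
    nlinarith [Nat.mul_le_mul_right C.index hC]
  rw [Nat.card_eq_one_iff_unique]
  refine ⟨⟨?_⟩, ?_⟩
  · rintro ⟨_, x, rfl, hx⟩ ⟨_, y, rfl, hy⟩
    refine Subtype.ext ?_
    rw [← ConjClasses.mem_carrier_iff_mk_eq, hclass y hy]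
    simpa [hD] using hx
  · obtain ⟨x, hx⟩ := CfsgLib.Derangement.exists_derangement (G := G) (Ω := Ω)
      (by rw [Nat.card_eq_fintype_card]; exact hΩ)
    exact ⟨⟨_, x, rfl, hx⟩⟩

end CfsgLib.MinNormal
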